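import Mathlib
import Groth.Agent.Comod.Basic
import Groth.Prelude.Def_W4c3madredgrpAct

/-!
Simultaneous diagonalisation on modules over Noetherian algebras, and right translations.
-/

universe u v w x

open TensorProduct

namespace Groth.Agent.MadDiag

section Eigen

variable {k : Type u} [Field k] {V : Type w} [AddCommGroup V] [Module k V]

theorem aeval_mem (f : Module.End k V) {U : Submodule k V} (hU : ∀ u ∈ U, f u ∈ U)
    (p : Polynomial k) {u : V} (hu : u ∈ U) : Polynomial.aeval f p u ∈ U := by
  induction p using Polynomial.induction_on generalizing u with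
  | C a => simpa using U.smul_mem a hu
  | add p q hp hq => simpa using U.add_mem (hp hu) (hq hu)
  | monomial n a ih =>
    rw [pow_succ, ← mul_assoc, map_mul, Module.End.mul_apply, Polynomial.aeval_X]
    exact ih (hU u hu)

/-- An invariant submodule contains the eigencomponents of its vectors. -/
theorem component_mem (f : Module.End k V) {U : Submodule k V} (hU : ∀ u ∈ U, f u ∈ U)
    {u a b : V} (hu : u ∈ U) (μ : k) (ha : a ∈ Module.End.eigenspace f μ)
    (hb : b ∈ ⨆ ν ∈ {ν : k | ν ≠ μ}, Module.End.eigenspace f ν) (hab : u = a + b) : a ∈ U := by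
  classical
  rw [iSup_subtype'] at hb
  obtain ⟨x, hx, hsum⟩ := (Submodule.mem_iSup_iff_exists_finsupp _ _).1 hb
  let s : Finset k := x.support.image Subtype.val
  let p : Polynomial k := ∏ ν ∈ s, (Polynomial.X - Polynomial.C ν)
  have hpμ : p.eval μ ≠ 0 := by
    simp only [p, Polynomial.eval_prod, Finset.prod_ne_zero_iff]
    intro ν hν
    obtain ⟨⟨ν', hν'⟩, -, rfl⟩ := Finset.mem_image.1 hν
    simp only [Polynomial.eval_sub, Polynomial.eval_X, Polynomial.eval_C, ne_eq, sub_eq_zero]
    exact fun h => hν' h.symm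
  have key : ∀ (ν : k) (y : V), y ∈ Module.End.eigenspace f ν →
      Polynomial.aeval f p y = p.eval ν • y := by
    intro ν y hy
    by_cases h0 : y = 0
    · simp [h0]
    · exact Module.End.aeval_apply_of_hasEigenvector ⟨hy, h0⟩
  have hb0 : Polynomial.aeval f p b = 0 := by
    rw [← hsum, map_finsuppSum]
    refine Finset.sum_eq_zero fun ν hν => ?_
    show Polynomial.aeval f p (x ν) = 0
    rw [key ν.1 _ (hx ν)]
    have : p.eval ν.1 = 0 := by
      simp only [p, Polynomial.eval_prod]
      exact Finset.prod_eq_zero (Finset.mem_image_of_mem _ hν) (by simp)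
    rw [this, zero_smul]
  have := aeval_mem f hU p hu
  rw [hab, map_add, hb0, add_zero, key μ a ha] at this
  simpa [smul_smul, inv_mul_cancel₀ hpμ] using U.smul_mem (p.eval μ)⁻¹ this

/-- Endomorphisms killed by a split squarefree polynomial are diagonalisable. -/
theorem iSup_eigenspace_eq_top (f : Module.End k V) (s : Finset k)
    (h : Polynomial.aeval f (∏ ν ∈ s, (Polynomial.X - Polynomial.C ν)) = 0) :
    ⨆ μ : k, Module.End.eigenspace f μ = ⊤ := by
  classical
  rw [Submodule.eq_top_iff']
  intro v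
  rcases s.eq_empty_or_nonempty with rfl | hs
  · have : (1 : Module.End k V) v = 0 := by
      rw [Finset.prod_empty, map_one] at h
      rw [h]; rfl
    have hv : v = 0 := this
    rw [hv]
    exact zero_mem _
  have h1 : v = ∑ i ∈ s, Polynomial.aeval f (Lagrange.basis s id i) v := by
    have := congrArg (fun p => Polynomial.aeval f p v)
      (Lagrange.sum_basis (v := id) (Function.injective_id.injOn) hs)
    simpa [map_sum] using this.symm
  rw [h1]
  refine Submodule.sum_mem _ fun i hi => Submodule.mem_iSup_of_mem i ?_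
  rw [Module.End.mem_eigenspace_iff, ← sub_eq_zero]
  obtain ⟨c, hc⟩ : ∃ c : k, (Polynomial.X - Polynomial.C i) * Lagrange.basis s id i =
      Polynomial.C c * ∏ ν ∈ s, (Polynomial.X - Polynomial.C ν) := by
    refine ⟨∏ j ∈ s.erase i, (i - j)⁻¹, ?_⟩
    rw [Lagrange.basis, map_prod, ← Finset.mul_prod_erase s _ hi]
    simp only [Lagrange.basisDivisor, id_eq, Finset.prod_mul_distrib]
    ring
  have := congrArg (fun p => Polynomial.aeval f p v) hc
  simp only [map_mul, map_sub, Polynomial.aeval_X, Polynomial.aeval_C, Module.End.mul_apply,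
    LinearMap.sub_apply, h, LinearMap.zero_apply, map_zero,
    Module.algebraMap_end_apply] at this
  exact this

end Eigen

section Simultaneous

variable {k : Type u} [Field k] {R : Type v} [CommRing R] [Algebra k R] [IsNoetherianRing R]
  {V : Type w} [AddCommGroup V] [Module R V] [Module k V] [IsScalarTower k R V]
  {ι : Type x} (f : ι → Module.End R V)

/-- The eigenspace as an `R`-submodule. -/
def eig (i : ι) (μ : k) : Submodule R V :=
  LinearMap.ker (f i - algebraMap k R μ • LinearMap.id)

omit [IsNoetherianRing R] in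
theorem mem_eig {i : ι} {μ : k} {v : V} :
    v ∈ eig f i μ ↔ v ∈ Module.End.eigenspace ((f i).restrictScalars k) μ := by
  simp [eig, sub_eq_zero, algebraMap_smul]

/-- Stability under the family. -/
def Stable (U : Submodule R V) : Prop := ∀ i, ∀ u ∈ U, f i u ∈ U

omit [IsNoetherianRing R] in
theorem stable_sup {U U' : Submodule R V} (h : Stable f U) (h' : Stable f U') :
    Stable f (U ⊔ U') := by
  intro i u hu
  obtain ⟨a, ha, b, hb, rfl⟩ := Submodule.mem_sup.1 hu
  rw [map_add]
  exact Submodule.add_mem_sup (h i a ha) (h' i b hb)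

theorem iSup_iInf_eq_top (hcomm : ∀ i j, Commute (f i) (f j))
    (hdiag : ∀ i, ⨆ μ : k, Module.End.eigenspace ((f i).restrictScalars k) μ = ⊤)
    (hfin : ∀ v : V, ∃ W : Submodule R V, v ∈ W ∧ W.FG ∧ ∀ i, ∀ w ∈ W, f i w ∈ W) :
    ⨆ χ : ι → k, ⨅ i, Module.End.eigenspace ((f i).restrictScalars k) (χ i) = ⊤ := by
  classical
  set S : Submodule k V :=
    ⨆ χ : ι → k, ⨅ i, Module.End.eigenspace ((f i).restrictScalars k) (χ i) with hS
  rw [Submodule.eq_top_iff']
  intro v
  obtain ⟨W, hvW, hWfg, hW⟩ := hfin v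
  have : IsNoetherian R W := isNoetherian_of_fg_of_noetherian W hWfg
  let Dec : Submodule R W → Prop := fun c =>
    ∃ U : Submodule R V, Stable f (c.map W.subtype) ∧ Stable f U ∧
      c.map W.subtype ⊔ U = W ∧ Disjoint (c.map W.subtype) U ∧
      (c.map W.subtype).restrictScalars k ≤ S
  have h0 : Dec ⊥ := ⟨W, by intro i u hu; simp at hu; simp [hu], hW, by simp, by simp,
    by simp⟩
  obtain ⟨c, hc, hmax⟩ := (wellFounded_gt (α := Submodule R W)).has_min {c | Dec c} ⟨⊥, h0⟩
  obtain ⟨U, hcs, hUs, hsup, hdisj, hcS⟩ := hc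
  by_cases hU : U = ⊥
  · rw [hU, sup_bot_eq] at hsup
    exact hcS (by rw [Submodule.restrictScalars_mem, hsup]; exact hvW)
  exfalso
  -- second maximisation inside U: split off a part with a nonzero complement
  have hUW : U ≤ W := hsup ▸ le_sup_right
  let Dec2 : Submodule R W → Prop := fun d =>
    ∃ U' : Submodule R V, Stable f (d.map W.subtype) ∧ Stable f U' ∧
      d.map W.subtype ⊔ U' = U ∧ Disjoint (d.map W.subtype) U' ∧ U' ≠ ⊥
  have h0' : Dec2 ⊥ := ⟨U, by intro i u hu; simp at hu; simp [hu], hUs, by simp, by simp, hU⟩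
  obtain ⟨d, hd, hdmax⟩ := (wellFounded_gt (α := Submodule R W)).has_min {d | Dec2 d} ⟨⊥, h0'⟩
  obtain ⟨U', hds, hU's, hsup', hdisj', hU'⟩ := hd
  have hU'U : U' ≤ U := hsup' ▸ le_sup_right
  have hdU : d.map W.subtype ≤ U := hsup' ▸ le_sup_left
  have toW : ∀ N : Submodule R V, N ≤ W → (N.comap W.subtype).map W.subtype = N := fun N hN =>
    Submodule.map_comap_eq_self (by simpa using hN)
  -- every member of the family is scalar on U'
  have scal : ∀ i, ∃ μ : k, U' ≤ eig f i μ := by
    intro i
    obtain ⟨u, hu, hu0⟩ := Submodule.exists_mem_ne_zero_of_ne_bot hU'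
    have hinv : ∀ z ∈ U'.restrictScalars k, ((f i).restrictScalars k) z ∈ U'.restrictScalars k :=
      fun z hz => hU's i z hz
    have hne : ∃ μ : k, U' ⊓ eig f i μ ≠ ⊥ := by
      by_contra hall
      push_neg at hall
      have : u ∈ ⨆ μ : k, Module.End.eigenspace ((f i).restrictScalars k) μ := by
        rw [hdiag i]; trivial
      obtain ⟨x, hx, hsum⟩ := (Submodule.mem_iSup_iff_exists_finsupp _ _).1 this
      refine hu0 ?_
      rw [← hsum]
      refine Finset.sum_eq_zero fun μ hμ => ?_
      have hxU : x μ ∈ U' := by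
        refine component_mem ((f i).restrictScalars k) hinv (u := u) (b := u - x μ) hu μ (hx μ) ?_
          (by abel)
        rw [← hsum, Finsupp.sum, ← Finset.add_sum_erase _ _ hμ, add_sub_cancel_left]
        exact Submodule.sum_mem _ fun ν hν => Submodule.mem_iSup_of_mem ν
          (Submodule.mem_iSup_of_mem (Finset.ne_of_mem_erase hν) (hx ν))
      exact (Submodule.mem_bot R).1 (hall μ ▸ ⟨hxU, (mem_eig f).2 (hx μ)⟩)
    obtain ⟨μ, hμ⟩ := hne
    refine ⟨μ, ?_⟩
    let U₁ := U' ⊓ eig f i μ
    let U₂ := U' ⊓ ⨆ ν ∈ {ν : k | ν ≠ μ}, eig f i ν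
    have hstab : ∀ (j : ι) (ν : k), ∀ z ∈ eig f i ν, f j z ∈ eig f i ν := by
      intro j ν z hz
      simp only [eig, LinearMap.mem_ker, LinearMap.sub_apply, LinearMap.smul_apply,
        LinearMap.id_apply, sub_eq_zero] at hz ⊢
      have := LinearMap.congr_fun (hcomm i j).eq z
      simp only [Module.End.mul_apply] at this
      rw [this, hz, map_smul]
    have hU₁s : Stable f U₁ := fun j z hz => ⟨hU's j z hz.1, hstab j μ z hz.2⟩
    have hU₂s : Stable f U₂ := fun j z hz => ⟨hU's j z hz.1, by
      have : (⨆ ν ∈ {ν : k | ν ≠ μ}, eig f i ν) ≤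
          (⨆ ν ∈ {ν : k | ν ≠ μ}, eig f i ν).comap (f j) :=
        iSup₂_le fun ν hν w hw => Submodule.mem_iSup_of_mem ν
          (Submodule.mem_iSup_of_mem hν (hstab j ν w hw))
      exact this hz.2⟩
    have hrs : (⨆ ν ∈ {ν : k | ν ≠ μ}, eig f i ν).restrictScalars k =
        ⨆ ν ∈ {ν : k | ν ≠ μ}, Module.End.eigenspace ((f i).restrictScalars k) ν := by
      simp only [Submodule.restrictScalars_iSup]
      refine iSup_congr fun ν => iSup_congr fun _ => ?_
      ext z; exact mem_eig f
    have hdj : Disjoint U₁ U₂ := by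
      rw [Submodule.disjoint_def]
      intro z h1 h2
      have hz2 : z ∈ ⨆ ν ∈ {ν : k | ν ≠ μ}, Module.End.eigenspace ((f i).restrictScalars k) ν :=
        hrs ▸ h2.2
      exact (Submodule.mem_bot k).1 ((Submodule.disjoint_def.1
        ((Module.End.eigenspaces_iSupIndep ((f i).restrictScalars k)) μ)) z ((mem_eig f).1 h1.2) hz2
          |> fun h => (Submodule.mem_bot k).2 h)
    have hsplit : U₁ ⊔ U₂ = U' := by
      refine le_antisymm (sup_le inf_le_left inf_le_left) fun z hz => ?_
      have hz' : z ∈ ⨆ ν : k, Module.End.eigenspace ((f i).restrictScalars k) ν := by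
        rw [hdiag i]; trivial
      rw [iSup_split_single _ μ] at hz'
      obtain ⟨a, ha, b, hb, rfl⟩ := Submodule.mem_sup.1 hz'
      have haU : a ∈ U' :=
        component_mem ((f i).restrictScalars k) hinv (u := a + b) hz μ ha hb rfl
      have hbU : b ∈ U' := by simpa using U'.sub_mem hz haU
      refine Submodule.add_mem_sup ⟨haU, (mem_eig f).2 ha⟩ ⟨hbU, ?_⟩
      show b ∈ (⨆ ν ∈ {ν : k | ν ≠ μ}, eig f i ν).restrictScalars k
      rw [hrs]; exact hb
    by_cases h2 : U₂ = ⊥
    · rw [h2, sup_bot_eq] at hsplit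
      exact hsplit ▸ inf_le_right
    exfalso
    let N := d.map W.subtype ⊔ U₁
    have hN : N ≤ W := sup_le (hdU.trans hUW) ((inf_le_left.trans hU'U).trans hUW)
    have hdec : Dec2 (N.comap W.subtype) := by
      refine ⟨U₂, ?_, hU₂s, ?_, ?_, h2⟩
      · rw [toW N hN]; exact stable_sup f hds hU₁s
      · rw [toW N hN, sup_assoc, hsplit, hsup']
      · rw [toW N hN]
        exact hdj.disjoint_sup_left_of_disjoint_sup_right (by rw [hsplit]; exact hdisj')
    refine hdmax _ hdec (lt_of_le_of_ne ?_ fun he => ?_)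
    · intro z hz
      exact Submodule.mem_sup_left ⟨z, hz, rfl⟩
    · have : N = d.map W.subtype := by rw [← toW N hN, ← he]
      obtain ⟨z, hz, hz0⟩ := Submodule.exists_mem_ne_zero_of_ne_bot hμ
      exact hz0 (Submodule.disjoint_def.1 hdisj' z (this ▸ Submodule.mem_sup_right hz) hz.1)
  choose χ hχ using scal
  have hU'S : U'.restrictScalars k ≤ S := fun z hz => by
    refine Submodule.mem_iSup_of_mem χ ?_
    rw [Submodule.mem_iInf]
    exact fun i => (mem_eig f).1 (hχ i hz)
  let M := c.map W.subtype ⊔ U'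
  have hM : M ≤ W := sup_le (le_sup_left.trans hsup.le) (hU'U.trans hUW)
  have hdec : Dec (M.comap W.subtype) := by
    refine ⟨d.map W.subtype, ?_, hds, ?_, ?_, ?_⟩
    · rw [toW M hM]; exact stable_sup f hcs hU's
    · rw [toW M hM, sup_assoc, sup_comm U', hsup', hsup]
    · rw [toW M hM]
      exact hdisj'.symm.disjoint_sup_left_of_disjoint_sup_right
        (by rw [sup_comm, hsup']; exact hdisj)
    · rw [toW M hM, Submodule.restrictScalars_sup]
      exact sup_le hcS hU'S
  refine hmax _ hdec (lt_of_le_of_ne ?_ fun he => ?_)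
  · intro z hz
    exact Submodule.mem_sup_left ⟨z, hz, rfl⟩
  · have : M = c.map W.subtype := by rw [← toW M hM, ← he]
    obtain ⟨z, hz, hz0⟩ := Submodule.exists_mem_ne_zero_of_ne_bot hU'
    exact hz0 (Submodule.disjoint_def.1 hdisj z (this ▸ Submodule.mem_sup_right hz) (hU'U hz))

end Simultaneous

section Transl

variable (k : Type u) [Field k] (A : Type v) [CommRing A] [Bialgebra k A]
  (R : Type w) [CommRing R] [Algebra k R]

theorem ptAct_one_tmul (g : A →ₐ[k] R) (a : A) :
    MadRed.ptAct k A R g (1 ⊗ₜ a) = MadRed.translAux k A R g a := by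
  simp [MadRed.ptAct, ← Algebra.TensorProduct.one_def]

theorem ptAct_ptAct (g h : A →ₐ[k] R) (a : A) :
    MadRed.ptAct k A R g (MadRed.ptAct k A R h (1 ⊗ₜ a)) =
      MadRed.ptAct k A R (WithConv.toConv g * WithConv.toConv h).ofConv (1 ⊗ₜ a) := by
  let Φ : A ⊗[k] (A ⊗[k] A) →ₗ[k] R ⊗[k] A :=
    (TensorProduct.comm k A R).toLinearMap ∘ₗ
      LinearMap.lTensor A (LinearMap.mul' k R ∘ₗ TensorProduct.map g.toLinearMap h.toLinearMap)
  have hL : ∀ w : A ⊗[k] A,
      MadRed.ptAct k A R g (Algebra.TensorProduct.map h (AlgHom.id k A)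
        (Algebra.TensorProduct.comm k A A w)) =
        Φ (TensorProduct.assoc k A A A ((Coalgebra.comul (R := k) (A := A)).rTensor A w)) := by
    intro w
    induction w using TensorProduct.induction_on with
    | zero => simp
    | add a b ha hb => simp only [map_add, ha, hb]
    | tmul x y =>
      simp only [Algebra.TensorProduct.comm_tmul, Algebra.TensorProduct.map_tmul, AlgHom.coe_id,
        id_eq, LinearMap.rTensor_tmul]
      have e : (h y) ⊗ₜ[k] x = ((h y) ⊗ₜ[k] (1 : A)) * ((1 : R) ⊗ₜ[k] x) := by simp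
      rw [e, map_mul, ptAct_one_tmul]
      have e' : MadRed.ptAct k A R g ((h y) ⊗ₜ[k] (1 : A)) = (h y) ⊗ₜ[k] (1 : A) := by
        simp [MadRed.ptAct]
      rw [e']
      simp only [MadRed.translAux, AlgHom.comp_apply, Bialgebra.comulAlgHom_apply,
        AlgEquiv.toAlgHom_eq_coe, AlgHom.coe_coe]
      generalize Coalgebra.comul (R := k) x = z
      induction z using TensorProduct.induction_on with
      | zero => simp
      | add a b ha hb => simp only [map_add, mul_add, ha, hb, TensorProduct.add_tmul]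
      | tmul p q => simp [Φ, mul_comm]
  have hR : ∀ w : A ⊗[k] A,
      Algebra.TensorProduct.map (WithConv.toConv g * WithConv.toConv h).ofConv (AlgHom.id k A)
        (Algebra.TensorProduct.comm k A A w) =
        Φ ((Coalgebra.comul (R := k) (A := A)).lTensor A w) := by
    intro w
    induction w using TensorProduct.induction_on with
    | zero => simp
    | add a b ha hb => simp only [map_add, ha, hb]
    | tmul x y =>
      simp only [Algebra.TensorProduct.comm_tmul, Algebra.TensorProduct.map_tmul, AlgHom.coe_id,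
        id_eq, LinearMap.lTensor_tmul, Φ, LinearMap.comp_apply, LinearEquiv.coe_coe,
        TensorProduct.comm_tmul]
      congr 1
  rw [ptAct_one_tmul, ptAct_one_tmul]
  simp only [MadRed.translAux, AlgHom.comp_apply, Bialgebra.comulAlgHom_apply,
    AlgEquiv.toAlgHom_eq_coe, AlgHom.coe_coe]
  exact (hL _).trans ((congrArg Φ (Coalgebra.coassoc_apply a)).trans (hR _).symm)

theorem commute_ptAct (g h : A →ₐ[k] R)
    (hc : WithConv.toConv g * WithConv.toConv h = WithConv.toConv h * WithConv.toConv g) :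
    Commute (MadRed.ptAct k A R g).toLinearMap (MadRed.ptAct k A R h).toLinearMap := by
  have : (MadRed.ptAct k A R g).comp (MadRed.ptAct k A R h) =
      (MadRed.ptAct k A R h).comp (MadRed.ptAct k A R g) := by
    refine Algebra.TensorProduct.ext (Subsingleton.elim _ _) ?_
    ext a
    show MadRed.ptAct k A R g (MadRed.ptAct k A R h (1 ⊗ₜ a)) =
      MadRed.ptAct k A R h (MadRed.ptAct k A R g (1 ⊗ₜ a))
    rw [ptAct_ptAct, ptAct_ptAct, hc]
  exact congrArg AlgHom.toLinearMap this

theorem exists_stable [IsNoetherianRing R] (v : R ⊗[k] A) :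
    ∃ W : Submodule R (R ⊗[k] A), v ∈ W ∧ W.FG ∧
      ∀ g : A →ₐ[k] R, ∀ w ∈ W, MadRed.ptAct k A R g w ∈ W := by
  classical
  obtain ⟨S, hS⟩ := TensorProduct.exists_finset v
  obtain ⟨C, hC, hSC, hCsub⟩ :=
    Comod.exists_finite_subcomod (k := k) (A := A) (V := A) (S.image Prod.snd)
  obtain ⟨T, hT⟩ := Module.Finite.iff_fg.1 hC
  let W : Submodule R (R ⊗[k] A) := Submodule.span R ((fun c : A => (1 : R) ⊗ₜ[k] c) '' T)
  have hmem : ∀ c ∈ C, ∀ r : R, r ⊗ₜ[k] c ∈ W := by
    intro c hc r
    have e : r ⊗ₜ[k] c = r • ((1 : R) ⊗ₜ[k] c) := by simp [TensorProduct.smul_tmul']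
    rw [e]
    refine W.smul_mem r ?_
    clear e
    rw [← hT] at hc
    induction hc using Submodule.span_induction with
    | mem x hx => exact Submodule.subset_span ⟨x, hx, rfl⟩
    | zero => simp
    | add x y _ _ hx hy => rw [TensorProduct.tmul_add]; exact W.add_mem hx hy
    | smul a x _ hx =>
      rw [TensorProduct.tmul_smul, ← algebraMap_smul R a ((1 : R) ⊗ₜ[k] x)]
      exact W.smul_mem _ hx
  refine ⟨W, ?_, Submodule.fg_span (T.finite_toSet.image _), fun g w hw => ?_⟩
  · rw [hS]
    exact Submodule.sum_mem _ fun p hp =>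
      hmem _ (hSC (by simp only [Finset.coe_image]; exact ⟨p, hp, rfl⟩)) _
  · induction hw using Submodule.span_induction with
    | mem x hx =>
      obtain ⟨c, hc, rfl⟩ := hx
      rw [ptAct_one_tmul]
      obtain ⟨z, hz⟩ := hCsub c (hT ▸ Submodule.subset_span hc)
      simp only [MadRed.translAux, AlgHom.comp_apply, Bialgebra.comulAlgHom_apply,
        AlgEquiv.toAlgHom_eq_coe, AlgHom.coe_coe]
      have hz' : Coalgebra.comul (R := k) c = C.subtype.rTensor A z := hz.symm
      rw [hz']
      clear hz hz'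
      induction z using TensorProduct.induction_on with
      | zero => simp
      | add a b ha hb => simp only [map_add]; exact W.add_mem ha hb
      | tmul p q => simpa using hmem p.1 p.2 (g q)
    | zero => simp
    | add x y _ _ hx hy => rw [map_add]; exact W.add_mem hx hy
    | smul a x _ hx => rw [map_smul]; exact W.smul_mem a hx

end Transl

end Groth.Agent.MadDiag
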